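import Mathlib
import Cfsg.Agent.Lib.Helper1.G23F

set_option autoImplicit false
set_option maxRecDepth 100000

/-! The Chevalley group of type `G₂` over the field with 3 elements: an element of order 6. -/

namespace Cfsg.Agent.Lib.Helper4.G23P

open Cfsg Cfsg.Lie Cfsg.Agent.Lib.Helper1 Cfsg.Agent.Lib.Helper1.MatCode
open Cfsg.Agent.Lib.Helper1.StemSA Cfsg.Agent.Lib.Helper1.G23 MulAction

/-- the product of the two generators -/
noncomputable def x6 : Gm := wordProd GG [0, 1]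

theorem x6_chk : ev cGG [0, 1, 0, 1, 0, 1, 0, 1, 0, 1, 0, 1] = c1 ∧
    neB 14 3 (ev cGG [0, 1, 0, 1]) c1 = true ∧
    neB 14 3 (ev cGG [0, 1, 0, 1, 0, 1]) c1 = true := by decide +kernel

theorem x6_pow_six : x6 ^ 6 = 1 := by
  have h := eq_of_evGG [0, 1, 0, 1, 0, 1, 0, 1, 0, 1, 0, 1] [] x6_chk.1
  rw [wordProd_nil] at h
  rw [← h]
  have e : ([0, 1, 0, 1, 0, 1, 0, 1, 0, 1, 0, 1] : List ℕ) =
      [0, 1] ++ ([0, 1] ++ ([0, 1] ++ ([0, 1] ++ ([0, 1] ++ [0, 1])))) := rfl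
  rw [e, wordProd_append, wordProd_append, wordProd_append, wordProd_append, wordProd_append]
  show x6 ^ 6 = x6 * (x6 * (x6 * (x6 * (x6 * x6))))
  simp only [pow_succ, pow_zero, one_mul, mul_assoc]

theorem x6_pow_two : x6 ^ 2 ≠ 1 := by
  intro h
  have h1 : φ (wordProd GG [0, 1, 0, 1]) = D (ev cGG [0, 1, 0, 1]) := φ_GG _
  have e : ([0, 1, 0, 1] : List ℕ) = [0, 1] ++ [0, 1] := rfl
  rw [e, wordProd_append] at h1
  have h2 : wordProd GG [0, 1] * wordProd GG [0, 1] = x6 ^ 2 := (pow_two x6).symm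
  rw [h2, h, map_one, ← D_c1] at h1
  exact dec_ne_of_neB 14 3 x6_chk.2.1 h1.symm

theorem x6_pow_three : x6 ^ 3 ≠ 1 := by
  intro h
  have h1 : φ (wordProd GG [0, 1, 0, 1, 0, 1]) = D (ev cGG [0, 1, 0, 1, 0, 1]) := φ_GG _
  have e : ([0, 1, 0, 1, 0, 1] : List ℕ) = [0, 1] ++ ([0, 1] ++ [0, 1]) := rfl
  rw [e, wordProd_append, wordProd_append] at h1
  have h2 : wordProd GG [0, 1] * (wordProd GG [0, 1] * wordProd GG [0, 1]) = x6 ^ 3 := by
    show x6 * (x6 * x6) = x6 ^ 3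
    simp only [pow_succ, pow_zero, one_mul, mul_assoc]
  rw [h2, h, map_one, ← D_c1] at h1
  exact dec_ne_of_neB 14 3 x6_chk.2.2 h1.symm

theorem orderOf_x6 : orderOf x6 = 6 := by
  have hd : orderOf x6 ∣ 6 := orderOf_dvd_of_pow_eq_one x6_pow_six
  have hle : orderOf x6 ≤ 6 := Nat.le_of_dvd (by norm_num) hd
  have hpos : 0 < orderOf x6 := orderOf_pos x6
  have hp := pow_orderOf_eq_one x6
  interval_cases h : orderOf x6
  · exfalso
    rw [pow_one] at hp
    apply x6_pow_two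
    rw [hp, one_pow]
  · exact absurd hp x6_pow_two
  · exact absurd hp x6_pow_three
  · omega
  · omega
  · rfl

end Cfsg.Agent.Lib.Helper4.G23P
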