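import Mathlib

set_option autoImplicit false

/-! Self-centralizing elements of prime order, through fixed points: abstract lemmas. -/

namespace Cfsg.Agent.Lib.Helper4.G23P

open MulAction

/-- an element mapping a finite subgroup into itself by conjugation normalizes it -/
theorem mem_normalizer_of_conj_mem {H : Type*} [Group H] (S : Subgroup H) [Finite S] (n : H)
    (h : ∀ s ∈ S, n * s * n⁻¹ ∈ S) : n ∈ Subgroup.normalizer (S : Set H) := by
  rw [Subgroup.mem_normalizer_iff]
  intro s
  constructor
  · exact h s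
  · intro hs
    let f : S → S := fun t => ⟨n * t.1 * n⁻¹, h t.1 t.2⟩
    have hinj : Function.Injective f := by
      intro a b hab
      have : n * a.1 * n⁻¹ = n * b.1 * n⁻¹ := congrArg Subtype.val hab
      apply Subtype.ext
      exact mul_left_cancel (mul_right_cancel this)
    have hsurj : Function.Surjective f := Finite.surjective_of_injective hinj
    obtain ⟨t, ht⟩ := hsurj ⟨n * s * n⁻¹, hs⟩
    have : n * t.1 * n⁻¹ = n * s * n⁻¹ := congrArg Subtype.val ht
    have hts : t.1 = s := mul_left_cancel (mul_right_cancel this)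
    rw [← hts]
    exact t.2

/-- the normalizer of a point stabilizer acts on the fixed points of the stabilizer in the orbit,
transitively, and the stabilizer of the point in it is the point stabilizer -/
theorem card_normalizer_stabilizer {H Y : Type*} [Group H] [Finite H] [MulAction H Y] (q : Y) :
    Nat.card (Subgroup.normalizer ((stabilizer H q : Subgroup H) : Set H)) =
      Nat.card (stabilizer H q) * {x ∈ orbit H q | ∀ b ∈ stabilizer H q, b • x = x}.ncard := by
  set B : Subgroup H := stabilizer H q with hB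
  set N : Subgroup H := Subgroup.normalizer (B : Set H) with hN
  have hBN : B ≤ N := Subgroup.le_normalizer
  -- the orbit of `q` under `N`
  have horb : orbit ↥N q = {x ∈ orbit H q | ∀ b ∈ B, b • x = x} := by
    ext x
    constructor
    · rintro ⟨n, rfl⟩
      refine ⟨⟨n.1, rfl⟩, fun b hb => ?_⟩
      have hn : n.1⁻¹ ∈ N := N.inv_mem n.2
      have h1 : n.1⁻¹ * b * n.1⁻¹⁻¹ ∈ B := (Subgroup.mem_normalizer_iff.mp hn b).mp hb
      rw [inv_inv] at h1
      have h2 : (n.1⁻¹ * b * n.1) • q = q := mem_stabilizer_iff.mp h1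
      show b • (n.1 • q) = n.1 • q
      calc b • (n.1 • q) = (n.1 * (n.1⁻¹ * b * n.1)) • q := by
            rw [← mul_smul]; congr 1; group
        _ = n.1 • q := by rw [mul_smul, h2]
    · rintro ⟨⟨h, rfl⟩, hfix⟩
      have hh : h⁻¹ ∈ N := by
        apply mem_normalizer_of_conj_mem
        intro s hs
        rw [inv_inv]
        show (h⁻¹ * s * h) ∈ stabilizer H q
        rw [mem_stabilizer_iff, mul_smul, mul_smul]
        have := hfix s hs
        simp only at this
        rw [this, inv_smul_smul]
      have hh' : h ∈ N := by simpa using N.inv_mem hh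
      exact ⟨⟨h, hh'⟩, rfl⟩
  -- the stabilizer of `q` in `N`
  have hstab : Nat.card (stabilizer ↥N q) = Nat.card B := by
    apply Nat.card_congr
    refine ⟨fun n => ⟨n.1.1, ?_⟩, fun b => ⟨⟨b.1, hBN b.2⟩, ?_⟩, fun n => rfl, fun b => rfl⟩
    · have := n.2
      rw [mem_stabilizer_iff] at this
      exact mem_stabilizer_iff.mpr this
    · rw [mem_stabilizer_iff]
      exact mem_stabilizer_iff.mp b.2
  have h1 := Subgroup.card_mul_index (stabilizer ↥N q)
  rw [index_stabilizer, horb, hstab] at h1
  exact h1.symm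

/-- a subgroup of prime order is generated by any of its nontrivial elements -/
theorem eq_zpowers_of_prime_card {H : Type*} [Group H] (B : Subgroup H) (p : ℕ) (hp : p.Prime)
    (hB : Nat.card B = p) (y : H) (hy : y ∈ B) (hy1 : y ≠ 1) : B = Subgroup.zpowers y := by
  haveI : Fact p.Prime := ⟨hp⟩
  haveI : Finite B := Nat.finite_of_card_ne_zero (by rw [hB]; exact hp.ne_zero)
  have hle : Subgroup.zpowers y ≤ B := by rwa [Subgroup.zpowers_le]
  have hcard : Nat.card (Subgroup.zpowers y) = p := by
    have hdvd : Nat.card (Subgroup.zpowers y) ∣ p := by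
      rw [← hB]; exact Subgroup.card_dvd_of_le hle
    rcases (Nat.dvd_prime hp).mp hdvd with h | h
    · exfalso
      rw [Nat.card_zpowers, orderOf_eq_one_iff] at h
      exact hy1 h
    · exact h
  symm
  apply SetLike.coe_injective
  apply Set.eq_of_subset_of_ncard_le hle _ (Set.toFinite _)
  have e1 : (↑B : Set H).ncard = Nat.card ↥B := rfl
  have e2 : (↑(Subgroup.zpowers y) : Set H).ncard = Nat.card ↥(Subgroup.zpowers y) := rfl
  rw [e1, e2, hB, hcard]

/-- the order of the normalizer of a point stabilizer of prime order, through the fixed points of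
a generator -/
theorem card_normalizer_zpowers {H Y : Type*} [Group H] [Finite H] [MulAction H Y] (q : Y)
    (p : ℕ) (hp : p.Prime) (hB : Nat.card (stabilizer H q) = p) (y : H) (hy : y • q = q)
    (hy1 : y ≠ 1) :
    Nat.card (Subgroup.normalizer ((Subgroup.zpowers y : Subgroup H) : Set H)) =
      p * {x ∈ orbit H q | y • x = x}.ncard := by
  have hBz := eq_zpowers_of_prime_card (stabilizer H q) p hp hB y (mem_stabilizer_iff.mpr hy) hy1
  have h := card_normalizer_stabilizer (H := H) q
  rw [hB] at h
  have hset : {x ∈ orbit H q | ∀ b ∈ stabilizer H q, b • x = x} = {x ∈ orbit H q | y • x = x} := by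
    ext x
    constructor
    · rintro ⟨hx, hfix⟩
      exact ⟨hx, hfix y (mem_stabilizer_iff.mpr hy)⟩
    · rintro ⟨hx, hfix⟩
      refine ⟨hx, fun b hb => ?_⟩
      rw [hBz] at hb
      obtain ⟨k, rfl⟩ := Subgroup.mem_zpowers_iff.mp hb
      have hy' : y ∈ stabilizer H x := mem_stabilizer_iff.mpr hfix
      exact mem_stabilizer_iff.mp ((stabilizer H x).zpow_mem hy' k)
  rw [hset, hBz] at h
  exact h

/-- the centralizer of an element of prime order `p` whose cyclic subgroup has a normalizer of
order `p * f` with `f` prime, not centralizing it, has order `p` -/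
theorem card_centralizer_of_normalizer {H : Type*} [Group H] [Finite H] (y n : H) (p f : ℕ)
    (hp : p.Prime) (hf : f.Prime) (hy : orderOf y = p)
    (hN : Nat.card (Subgroup.normalizer ((Subgroup.zpowers y : Subgroup H) : Set H)) = p * f)
    (hn : n ∈ Subgroup.normalizer ((Subgroup.zpowers y : Subgroup H) : Set H))
    (hny : n * y ≠ y * n) : Nat.card (Subgroup.centralizer ({y} : Set H)) = p := by
  set C : Subgroup H := Subgroup.centralizer ({y} : Set H) with hC
  set N : Subgroup H := Subgroup.normalizer ((Subgroup.zpowers y : Subgroup H) : Set H) with hNd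
  have hCN : C ≤ N := by
    intro c hc
    have hcy : c * y = y * c := by
      have := Subgroup.mem_centralizer_iff.mp hc y (Set.mem_singleton y)
      exact this.symm
    apply mem_normalizer_of_conj_mem
    intro s hs
    obtain ⟨k, rfl⟩ := Subgroup.mem_zpowers_iff.mp hs
    have hcomm : Commute c (y ^ k) := (Commute.zpow_right hcy k)
    have : c * y ^ k * c⁻¹ = y ^ k := by
      rw [hcomm.eq, mul_assoc, mul_inv_cancel, mul_one]
    rw [this]
    exact Subgroup.zpow_mem_zpowers y k
  have hzC : Subgroup.zpowers y ≤ C := by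
    rw [Subgroup.zpowers_le]
    exact Subgroup.mem_centralizer_iff.mpr (fun z hz => by rw [Set.mem_singleton_iff.mp hz])
  have h1 : p ∣ Nat.card C := by
    have := Subgroup.card_dvd_of_le hzC
    rwa [Nat.card_zpowers, hy] at this
  have h2 : Nat.card C ∣ p * f := by
    rw [← hN]; exact Subgroup.card_dvd_of_le hCN
  have hne : Nat.card C ≠ p * f := by
    intro he
    have : C = N := by
      apply SetLike.coe_injective
      apply Set.eq_of_subset_of_ncard_le hCN _ (Set.toFinite _)
      have e1 : (↑C : Set H).ncard = Nat.card ↥C := rfl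
      have e2 : (↑N : Set H).ncard = Nat.card ↥N := rfl
      rw [e1, e2, he, hN]
    have hnC : n ∈ C := by rw [this]; exact hn
    have := Subgroup.mem_centralizer_iff.mp hnC y (Set.mem_singleton y)
    exact hny this.symm
  obtain ⟨d, hd⟩ := h1
  rw [hd] at h2 hne
  have hdf : d ∣ f := Nat.dvd_of_mul_dvd_mul_left hp.pos h2
  rcases (Nat.dvd_prime hf).mp hdf with h | h
  · rw [hd, h, mul_one]
  · exact absurd (by rw [h]) hne

/-- no element inverts an element which is not an involution and whose cyclic subgroup has a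
normalizer of odd order -/
theorem no_inverting {H : Type*} [Group H] [Finite H] (y m : H)
    (hodd : Odd (Nat.card (Subgroup.normalizer ((Subgroup.zpowers y : Subgroup H) : Set H))))
    (hy2 : y ^ 2 ≠ 1) (hm : m * y * m⁻¹ = y⁻¹) : False := by
  set N : Subgroup H := Subgroup.normalizer ((Subgroup.zpowers y : Subgroup H) : Set H) with hNd
  have hmN : m ∈ N := by
    apply mem_normalizer_of_conj_mem
    intro s hs
    obtain ⟨k, rfl⟩ := Subgroup.mem_zpowers_iff.mp hs
    have : m * y ^ k * m⁻¹ = (y⁻¹) ^ k := by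
      rw [← hm]
      simp [conj_zpow]
    rw [this, inv_zpow, ← zpow_neg]
    exact Subgroup.zpow_mem_zpowers y _
  have hord : orderOf m ∣ Nat.card N := by
    have h1 : orderOf (⟨m, hmN⟩ : N) ∣ Nat.card N := orderOf_dvd_natCard _
    rwa [Subgroup.orderOf_mk] at h1
  have hoddm : Odd (orderOf m) := by
    rcases Nat.even_or_odd (orderOf m) with he | ho
    · exfalso
      have : 2 ∣ Nat.card N := (even_iff_two_dvd.mp he).trans hord
      exact (Nat.not_even_iff_odd.mpr hodd) (even_iff_two_dvd.mpr this)
    · exact ho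
  have hpow : ∀ k : ℕ, m ^ k * y * (m ^ k)⁻¹ = y ^ ((-1 : ℤ) ^ k) := by
    intro k
    induction k with
    | zero => simp
    | succ k ih =>
      have e : m ^ (k + 1) * y * (m ^ (k + 1))⁻¹ = m * (m ^ k * y * (m ^ k)⁻¹) * m⁻¹ := by
        rw [pow_succ']; group
      rw [e, ih]
      have : m * y ^ ((-1 : ℤ) ^ k) * m⁻¹ = (m * y * m⁻¹) ^ ((-1 : ℤ) ^ k) := by
        simp [conj_zpow]
      rw [this, hm, inv_zpow, ← zpow_neg, pow_succ]
      congr 1
      ring
  have h := hpow (orderOf m)
  rw [pow_orderOf_eq_one, one_mul, inv_one, mul_one, hoddm.neg_one_pow, zpow_neg, zpow_one] at h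
  apply hy2
  calc y ^ 2 = y * y := pow_two y
    _ = y * y⁻¹ := by rw [← h]
    _ = 1 := mul_inv_cancel y

/-- the centralizer of an element lies in the stabilizer of a point, when the element has two
fixed points in the orbit, exchanged by an element inverting it, and no element of the stabilizer
inverts it -/
theorem centralizer_le_stabilizer {G X : Type*} [Group G] [MulAction G X] (y n' : G) (x0 x1 : X)
    (hfix : ∀ x ∈ orbit G x0, y • x = x → x = x0 ∨ x = x1)
    (hy0 : y • x0 = x0) (hn' : n' • x0 = x1) (hinv : n' * y * n'⁻¹ = y⁻¹)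
    (hno : ∀ m ∈ stabilizer G x0, m * y * m⁻¹ ≠ y⁻¹) :
    Subgroup.centralizer ({y} : Set G) ≤ stabilizer G x0 := by
  intro t ht
  have hty : y * t = t * y := Subgroup.mem_centralizer_iff.mp ht y (Set.mem_singleton y)
  have h1 : y • (t • x0) = t • x0 := by
    rw [← mul_smul, hty, mul_smul, hy0]
  rcases hfix (t • x0) ⟨t, rfl⟩ h1 with h | h
  · exact mem_stabilizer_iff.mpr h
  · exfalso
    have hm : (n'⁻¹ * t) ∈ stabilizer G x0 := by
      rw [mem_stabilizer_iff, mul_smul, h, ← hn', inv_smul_smul]
    apply hno _ hm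
    have e1 : n'⁻¹ * t * y * (n'⁻¹ * t)⁻¹ = n'⁻¹ * (t * y * t⁻¹) * n' := by group
    have e2 : t * y * t⁻¹ = y := by rw [← hty, mul_assoc, mul_inv_cancel, mul_one]
    rw [e1, e2]
    have e3 : y = n'⁻¹ * y⁻¹ * n' := by rw [← hinv]; group
    calc n'⁻¹ * y * n' = n'⁻¹ * (n'⁻¹ * y⁻¹ * n') * n' := by rw [← e3]
      _ = (n'⁻¹ * y * n')⁻¹⁻¹ := by rw [inv_inv]; rw [← e3]
      _ = y⁻¹ := by
        have : (n'⁻¹ * y * n')⁻¹ = n'⁻¹ * y⁻¹ * n' := by group
        rw [this, ← e3]

end Cfsg.Agent.Lib.Helper4.G23P
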