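import Mathlib
import Cfsg.Agent.Lib.Helper4.G23.SC1

set_option autoImplicit false

/-! Self-centralizing Sylow subgroups of prime order: the elements of order divisible by the prime
have order the prime. -/

namespace Cfsg.Agent.Lib.Helper4.G23P

open MulAction

/-- if a finite group has an element `y` of prime order `p`, with centralizer of order `p`, and
`p ^ 2` does not divide the order of the group, then every element of order divisible by `p` has
order `p` -/
theorem orderOf_eq_of_dvd {G : Type*} [Group G] [Finite G] (p : ℕ) (hp : p.Prime) (y : G)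
    (hy : orderOf y = p) (hC : Nat.card (Subgroup.centralizer ({y} : Set G)) ≤ p)
    (hp2 : ¬ p ^ 2 ∣ Nat.card G) (x : G) (hx : p ∣ orderOf x) : orderOf x = p := by
  haveI : Fact p.Prime := ⟨hp⟩
  -- the `p`-part of the order of the group
  have hpG : p ∣ Nat.card G := by rw [← hy]; exact orderOf_dvd_natCard y
  have hfac : (Nat.card G).factorization p = 1 := by
    have h1 : 1 ≤ (Nat.card G).factorization p :=
      (hp.dvd_iff_one_le_factorization Nat.card_pos.ne').mp hpG
    have h2 : ¬ 2 ≤ (Nat.card G).factorization p := by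
      intro h
      apply hp2
      exact (hp.pow_dvd_iff_le_factorization Nat.card_pos.ne').mpr h
    omega
  -- the element of order `p`
  set z : G := x ^ (orderOf x / p) with hz
  have hxpos : 0 < orderOf x := orderOf_pos x
  have hzord : orderOf z = p := by
    rw [hz, orderOf_pow_orderOf_div hxpos.ne' hx]
  have cardP : Nat.card (Subgroup.zpowers z) = p ^ (Nat.card G).factorization p := by
    rw [hfac, pow_one, Nat.card_zpowers, hzord]
  have cardQ : Nat.card (Subgroup.zpowers y) = p ^ (Nat.card G).factorization p := by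
    rw [hfac, pow_one, Nat.card_zpowers, hy]
  let P : Sylow p G := Sylow.ofCard (Subgroup.zpowers z) cardP
  let Q : Sylow p G := Sylow.ofCard (Subgroup.zpowers y) cardQ
  obtain ⟨g, hg⟩ := MulAction.exists_smul_eq G P Q
  have hzP : z ∈ (P : Subgroup G) := Subgroup.mem_zpowers z
  have hgz : g * z * g⁻¹ ∈ (Q : Subgroup G) := by
    rw [← hg, Sylow.coe_subgroup_smul, Subgroup.mem_pointwise_smul_iff_inv_smul_mem]
    simp only [MulAut.smul_def, MulAut.conj_inv_apply]
    have : g⁻¹ * (g * z * g⁻¹) * g = z := by group
    rw [this]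
    exact hzP
  have hgz' : g * z * g⁻¹ ∈ Subgroup.zpowers y := hgz
  -- the conjugate of `z` generates the cyclic subgroup of `y`
  have hgz1 : g * z * g⁻¹ ≠ 1 := by
    intro h
    have : z = 1 := by
      have h2 : g⁻¹ * (g * z * g⁻¹) * g = z := by group
      rw [← h2, h]; group
    rw [← orderOf_eq_one_iff, hzord] at this
    exact hp.one_lt.ne' this
  have hzp : Subgroup.zpowers y = Subgroup.zpowers (g * z * g⁻¹) :=
    eq_zpowers_of_prime_card (Subgroup.zpowers y) p hp (by rw [Nat.card_zpowers, hy])
      (g * z * g⁻¹) hgz' hgz1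
  have hyz : y ∈ Subgroup.zpowers (g * z * g⁻¹) := by
    rw [← hzp]; exact Subgroup.mem_zpowers y
  obtain ⟨k, hk⟩ := Subgroup.mem_zpowers_iff.mp hyz
  -- the conjugate of `x` centralizes `y`
  set x' : G := g * x * g⁻¹ with hx'
  have hzx' : g * z * g⁻¹ = x' ^ (orderOf x / p) := by
    rw [hx', hz, conj_pow]
  have hcomm : Commute x' y := by
    rw [← hk, hzx']
    exact (Commute.refl x').pow_right _ |>.zpow_right k
  have hx'C : x' ∈ Subgroup.centralizer ({y} : Set G) := by
    rw [Subgroup.mem_centralizer_iff]
    intro w hw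
    rw [Set.mem_singleton_iff.mp hw]
    exact hcomm.eq.symm
  have hCcard : Nat.card (Subgroup.centralizer ({y} : Set G)) = p := by
    apply le_antisymm hC
    have hle : Subgroup.zpowers y ≤ Subgroup.centralizer ({y} : Set G) := by
      rw [Subgroup.zpowers_le]
      exact Subgroup.mem_centralizer_iff.mpr (fun w hw => by rw [Set.mem_singleton_iff.mp hw])
    have := Nat.le_of_dvd Nat.card_pos (Subgroup.card_dvd_of_le hle)
    rwa [Nat.card_zpowers, hy] at this
  have hord' : orderOf x' ∣ p := by
    have h1 : orderOf (⟨x', hx'C⟩ : Subgroup.centralizer ({y} : Set G)) ∣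
        Nat.card (Subgroup.centralizer ({y} : Set G)) := orderOf_dvd_natCard _
    rwa [Subgroup.orderOf_mk, hCcard] at h1
  have hordx : orderOf x' = orderOf x := by
    have hs : SemiconjBy g x x' := by
      show g * x = x' * g
      rw [hx']; group
    exact (SemiconjBy.orderOf_eq g hs).symm
  rw [hordx] at hord'
  exact Nat.dvd_antisymm hord' hx

end Cfsg.Agent.Lib.Helper4.G23P
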