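import Mathlib
import Cfsg.Agent.Lib.Helper4.G23.SC2

set_option autoImplicit false

/-! Fixed points of an element given by a table on indexed points, and the centralizer of an
element of a subgroup. -/

namespace Cfsg.Agent.Lib.Helper4.G23P

open MulAction

/-- the number of fixed points of an element in an orbit of indexed points, from its table -/
theorem ncard_fix {H Y : Type*} [Group H] [MulAction H Y] (pt : ℕ → Y) (m : ℕ)
    (hinj : ∀ j < m, ∀ j' < m, pt j = pt j' → j = j') (q : Y)
    (horb : orbit H q = pt '' (↑(Finset.range m) : Set ℕ)) (y : H) (τ : ℕ → ℕ)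
    (hτ : ∀ j < m, y • pt j = pt (τ j)) (hτm : ∀ j < m, τ j < m) :
    {x ∈ orbit H q | y • x = x}.ncard = ((Finset.range m).filter (fun j => τ j = j)).card := by
  have hset : {x ∈ orbit H q | y • x = x} =
      pt '' (↑((Finset.range m).filter (fun j => τ j = j)) : Set ℕ) := by
    ext x
    constructor
    · rintro ⟨hx, hfix⟩
      rw [horb] at hx
      obtain ⟨j, hj, rfl⟩ := hx
      have hjm : j < m := Finset.mem_range.mp (Finset.mem_coe.mp hj)
      refine ⟨j, ?_, rfl⟩
      rw [Finset.mem_coe, Finset.mem_filter]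
      refine ⟨Finset.mem_range.mpr hjm, ?_⟩
      have h1 : pt (τ j) = pt j := by rw [← hτ j hjm]; exact hfix
      exact hinj _ (hτm j hjm) _ hjm h1
    · rintro ⟨j, hj, rfl⟩
      rw [Finset.mem_coe, Finset.mem_filter] at hj
      have hjm : j < m := Finset.mem_range.mp hj.1
      refine ⟨?_, ?_⟩
      · rw [horb]
        exact ⟨j, Finset.mem_coe.mpr hj.1, rfl⟩
      · show y • pt j = pt j
        rw [hτ j hjm, hj.2]
  rw [hset]
  have hinjOn : Set.InjOn pt (↑((Finset.range m).filter (fun j => τ j = j)) : Set ℕ) := by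
    intro j hj j' hj' h
    rw [Finset.mem_coe, Finset.mem_filter] at hj hj'
    exact hinj j (Finset.mem_range.mp hj.1) j' (Finset.mem_range.mp hj'.1) h
  rw [hinjOn.ncard_image, Set.ncard_coe_finset]

/-- the fixed points of an element in an orbit of indexed points, from its table -/
theorem fix_cases {H Y : Type*} [Group H] [MulAction H Y] (pt : ℕ → Y) (m : ℕ)
    (hinj : ∀ j < m, ∀ j' < m, pt j = pt j' → j = j') (q : Y)
    (horb : orbit H q = pt '' (↑(Finset.range m) : Set ℕ)) (y : H) (τ : ℕ → ℕ)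
    (hτ : ∀ j < m, y • pt j = pt (τ j)) (hτm : ∀ j < m, τ j < m) (a b : ℕ)
    (hab : ∀ j < m, τ j = j → j = a ∨ j = b) :
    ∀ x ∈ orbit H q, y • x = x → x = pt a ∨ x = pt b := by
  intro x hx hfix
  rw [horb] at hx
  obtain ⟨j, hj, rfl⟩ := hx
  have hjm : j < m := Finset.mem_range.mp (Finset.mem_coe.mp hj)
  have h1 : pt (τ j) = pt j := by rw [← hτ j hjm]; exact hfix
  have h2 : τ j = j := hinj _ (hτm j hjm) _ hjm h1
  rcases hab j hjm h2 with h | h
  · left; rw [h]
  · right; rw [h]

/-- the centralizer of an element of a subgroup, when it lies in the subgroup -/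
theorem card_centralizer_le_of_le {G : Type*} [Group G] (K : Subgroup G) (y : G) (hy : y ∈ K)
    [Finite (Subgroup.centralizer ({(⟨y, hy⟩ : K)} : Set K))]
    (hle : Subgroup.centralizer ({y} : Set G) ≤ K) :
    Nat.card (Subgroup.centralizer ({y} : Set G)) ≤
      Nat.card (Subgroup.centralizer ({(⟨y, hy⟩ : K)} : Set K)) := by
  let f : Subgroup.centralizer ({y} : Set G) → Subgroup.centralizer ({(⟨y, hy⟩ : K)} : Set K) :=
    fun t => ⟨⟨t.1, hle t.2⟩, by
      rw [Subgroup.mem_centralizer_iff]
      intro w hw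
      rw [Set.mem_singleton_iff.mp hw]
      apply Subtype.ext
      exact Subgroup.mem_centralizer_iff.mp t.2 y (Set.mem_singleton y)⟩
  apply Nat.card_le_card_of_injective f
  intro a b hab
  apply Subtype.ext
  exact congrArg (fun t : Subgroup.centralizer ({(⟨y, hy⟩ : K)} : Set K) => (t.1.1 : G)) hab

/-- an element conjugating `y` to a power of `y` normalizes the cyclic subgroup of `y` -/
theorem mem_normalizer_zpowers {H : Type*} [Group H] [Finite H] (y n : H) (k : ℕ)
    (h : n * y = y ^ k * n) :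
    n ∈ Subgroup.normalizer ((Subgroup.zpowers y : Subgroup H) : Set H) := by
  apply mem_normalizer_of_conj_mem
  intro s hs
  obtain ⟨i, rfl⟩ := Subgroup.mem_zpowers_iff.mp hs
  have h1 : n * y * n⁻¹ = y ^ k := by rw [h, mul_assoc, mul_inv_cancel, mul_one]
  have h2 : n * y ^ i * n⁻¹ = (y ^ k) ^ i := by
    rw [← h1]; simp [conj_zpow]
  rw [h2, ← zpow_natCast, ← zpow_mul]
  exact Subgroup.zpow_mem_zpowers y _

end Cfsg.Agent.Lib.Helper4.G23P
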