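import Mathlib
import Cfsg.Agent.Lib.Helper1.G23F
import Cfsg.Agent.Lib.Helper4.G23.SC3
import Cfsg.Agent.Lib.Helper4.G23.P13D

set_option autoImplicit false
set_option maxRecDepth 100000

/-! The Chevalley group of type `G₂` over the field with 3 elements: the stabilizer of one of the
756 vectors, of order 5616, its two generators, and its action on 432 vectors. -/

namespace Cfsg.Agent.Lib.Helper4.G23P

open Cfsg Cfsg.Lie Cfsg.Agent.Lib.Helper1 Cfsg.Agent.Lib.Helper1.MatCode
open Cfsg.Agent.Lib.Helper1.StemSA Cfsg.Agent.Lib.Helper1.G23 MulAction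

/-- the 756 vectors -/
def pt756 (j : ℕ) : Mat := vpt (PV756 j)

theorem chk_struct756 : D756.chkStruct = true := by decide +kernel

theorem chk_vecs756 : chkVecs PV756 756 = true := by decide +kernel

theorem chk_act756 : chkAct cGG PV756 756 D756.pi = true := by decide +kernel

theorem chk_distinct756 : chkDistinct PV756 756 = true := by decide +kernel

theorem m756 : D756.m = 756 := rfl

theorem k756 : D756.k = 2 := rfl

theorem pi_act756 (i : ℕ) (hi : i < D756.k) (j : ℕ) (hj : j < D756.m) :
    GG.getD i 1 • pt756 j = pt756 (D756.pi i j) :=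
  smul_vpt_of GG cGG PV756 756 D756.pi φ_GG_get chk_vecs756 chk_act756 i hi j hj

theorem pt756_inj (j : ℕ) (hj : j < 756) (j' : ℕ) (hj' : j' < 756) (h : pt756 j = pt756 j') :
    j = j' :=
  vpt_inj_of PV756 756 chk_vecs756 chk_distinct756 j hj j' hj' h

theorem hgen756 : Subgroup.closure {g : Gm | ∃ i < D756.k, g = GG.getD i 1} = ⊤ := hgen

/-- the stabilizer of the first of the 756 vectors -/
noncomputable abbrev L13 : Subgroup Gm := MulAction.stabilizer Gm (pt756 0)

theorem card_L13 : Nat.card ↥L13 = 5616 := by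
  have h := StemOrb.card_stabilizer_mul D756 chk_struct756 pt756 GG hgen756 pi_act756
    (by rw [m756]; norm_num) (fun j hj j' hj' => pt756_inj j hj j' hj')
  rw [card_Gm, m756] at h
  have h' : Nat.card ↥L13 * 756 = 4245696 := h
  omega

theorem orbit756 : orbit Gm (pt756 0) = pt756 '' (↑(Finset.range 756) : Set ℕ) := by
  have h := StemOrb.orbit_eq D756 chk_struct756 pt756 GG hgen756 pi_act756
    (by rw [m756]; norm_num)
  rw [m756] at h
  exact h

/-! ## The generators of the stabilizer -/

/-- the second generator of the stabilizer -/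
noncomputable def l2 : Gm := wordProd GG4 wL2

theorem ev_wL2 : ev cGG4 wL2 = cL2 := by decide +kernel

theorem φ_l2 : φ l2 = D cL2 := by rw [← ev_wL2]; exact φ_GG4 wL2

theorem cn_cL2 : Cn cL2 := by rw [← ev_wL2]; exact cn_ev _ _

/-- the generators of the stabilizer -/
noncomputable def GL1 : List Gm := [gB, l2]

/-- their codes -/
def cGL : List ℕ := [cB, cL2]

theorem GL1_hG : ∀ i, ∀ (h : i < GL1.length) (h' : i < cGL.length),
    φ (GL1[i]'h) = D (cGL[i]'h') := by
  intro i h h'
  have hi : i < 2 := h'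
  interval_cases i
  · exact φ_gB
  · exact φ_l2

theorem cGL_can : ∀ c ∈ cGL, Cn c := by
  intro c hc
  simp only [cGL, List.mem_cons, List.not_mem_nil, or_false] at hc
  rcases hc with rfl | rfl
  · exact cn_cB
  · exact cn_cL2

theorem φ_GL1 (w : List ℕ) : φ (wordProd GL1 w) = D (ev cGL w) :=
  phi_wordProd GL1 cGL rfl GL1_hG cGL_can w

theorem eq_of_evGL1 (w w' : List ℕ) (h : ev cGL w = ev cGL w') :
    wordProd GL1 w = wordProd GL1 w' :=
  eq_of_ev GL1 cGL rfl GL1_hG cGL_can w w' h

theorem φ_GL1_get (i : ℕ) (hi : i < cGL.length) : φ (GL1.getD i 1) = D (cGL.getD i c1) := by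
  have hi' : i < 2 := hi
  interval_cases i
  · exact φ_gB
  · exact φ_l2

theorem fix_chk13 : (List.range 2).all (fun i =>
    mu (cGL.getD i c1) (expand (PV756 0)) == expand (PV756 0)) = true ∧
    canonB 14 3 (expand (PV756 0)) = true := by decide +kernel

theorem GL1_mem_L13 (i : ℕ) (hi : i < 2) : GL1.getD i 1 ∈ L13 := by
  rw [MulAction.mem_stabilizer_iff]
  have h := fix_chk13.1
  rw [List.all_eq_true] at h
  have h1 := h i (List.mem_range.mpr hi)
  rw [beq_iff_eq] at h1
  exact smul_vpt _ _ (φ_GL1_get i hi) _ _ fix_chk13.2 h1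

theorem gB_mem_L13 : gB ∈ L13 := GL1_mem_L13 0 (by norm_num)

theorem l2_mem_L13 : l2 ∈ L13 := GL1_mem_L13 1 (by norm_num)

theorem gB_chk : neB 14 3 cB c1 = true := by decide +kernel

theorem gB_ne : gB ≠ 1 := by
  intro h
  have h1 := φ_gB
  rw [h, map_one, ← D_c1] at h1
  exact dec_ne_of_neB 14 3 gB_chk h1.symm

theorem orderOf_gB : orderOf gB = 13 := by
  haveI : Fact (Nat.Prime 13) := ⟨by norm_num⟩
  exact orderOf_eq_prime gB_pow gB_ne

/-! ## The 432 vectors -/

/-- the 432 vectors -/
def pt432 (j : ℕ) : Mat := vpt (PV432 j)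

theorem chk_struct432 : D432.chkStruct = true := by decide +kernel

theorem chk_vecs432 : chkVecs PV432 432 = true := by decide +kernel

theorem chk_act432 : chkAct cGL PV432 432 D432.pi = true := by decide +kernel

theorem chk_distinct432 : chkDistinct PV432 432 = true := by decide +kernel

theorem m432 : D432.m = 432 := rfl

theorem pi_act432 (i : ℕ) (hi : i < D432.k) (j : ℕ) (hj : j < D432.m) :
    GL1.getD i 1 • pt432 j = pt432 (D432.pi i j) :=
  smul_vpt_of GL1 cGL PV432 432 D432.pi φ_GL1_get chk_vecs432 chk_act432 i hi j hj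

theorem pt432_inj (j : ℕ) (hj : j < 432) (j' : ℕ) (hj' : j' < 432) (h : pt432 j = pt432 j') :
    j = j' :=
  vpt_inj_of PV432 432 chk_vecs432 chk_distinct432 j hj j' hj' h

/-- the subgroup generated by the two generators -/
noncomputable def U13 : Subgroup Gm := Subgroup.closure {g | ∃ i < D432.k, g = GL1.getD i 1}

theorem U13_le : U13 ≤ L13 := by
  unfold U13
  rw [Subgroup.closure_le]
  rintro g ⟨i, hi, rfl⟩
  exact GL1_mem_L13 i hi

theorem gB_mem_U13 : gB ∈ U13 := Subgroup.subset_closure ⟨0, by decide, rfl⟩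

theorem pi432_zero : D432.pi 0 0 = 0 := by decide +kernel

theorem gB_fix432 : gB ∈ MulAction.stabilizer Gm (pt432 0) := by
  rw [MulAction.mem_stabilizer_iff]
  have h := pi_act432 0 (by decide) 0 (by decide)
  rw [pi432_zero] at h
  exact h

theorem card_U13_ge : 5616 ≤ Nat.card ↥U13 := by
  have h := card_mul_le_of_orbit U13 (Subgroup.zpowers gB) (pt432 0)
    (by rw [Subgroup.zpowers_le]; exact gB_mem_U13)
    (by rw [Subgroup.zpowers_le]; exact gB_fix432)
    ((Finset.range 432).image pt432) (by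
      intro y hy
      rw [Finset.mem_image] at hy
      obtain ⟨j, hj, rfl⟩ := hy
      exact StemZB.exists_mem_closure_smul D432 chk_struct432 pt432 GL1 pi_act432 j
        (Finset.mem_range.mp hj))
  rw [card_image_range pt432 432 pt432_inj, Nat.card_zpowers, orderOf_gB] at h
  omega

theorem U13_eq : U13 = L13 := by
  have hle : U13 ≤ L13 := U13_le
  have hU := card_U13_ge
  have hK := card_L13
  apply SetLike.coe_injective
  apply Set.eq_of_subset_of_ncard_le hle _ (Set.toFinite _)
  have e1 : (↑L13 : Set Gm).ncard = Nat.card ↥L13 := rfl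
  have e2 : (↑U13 : Set Gm).ncard = Nat.card ↥U13 := rfl
  rw [e1, e2]
  omega

/-- the generators of the stabilizer, in the stabilizer -/
noncomputable abbrev GLs : List ↥L13 := [⟨gB, gB_mem_L13⟩, ⟨l2, l2_mem_L13⟩]

theorem GL_val (i : ℕ) : ((GLs.getD i 1 : ↥L13) : Gm) = GL1.getD i 1 := by
  rcases i with _ | _ | i
  · rfl
  · rfl
  · rfl

theorem wordProd_GL (w : List ℕ) : ((wordProd GLs w : ↥L13) : Gm) = wordProd GL1 w := by
  induction w with
  | nil => rfl
  | cons i w ih =>
    rw [wordProd_cons, wordProd_cons, Subgroup.coe_mul, ih, GL_val]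

theorem hgenL : Subgroup.closure {g : ↥L13 | ∃ i < D432.k, g = GLs.getD i 1} = ⊤ := by
  apply Subgroup.map_injective L13.subtype_injective
  rw [MonoidHom.map_closure, ← MonoidHom.range_eq_map, Subgroup.range_subtype]
  have e : (L13.subtype '' {g : ↥L13 | ∃ i < D432.k, g = GLs.getD i 1}) =
      {g : Gm | ∃ i < D432.k, g = GL1.getD i 1} := by
    ext g
    constructor
    · rintro ⟨g', ⟨i, hi, rfl⟩, rfl⟩
      exact ⟨i, hi, GL_val i⟩
    · rintro ⟨i, hi, rfl⟩
      exact ⟨GLs.getD i 1, ⟨i, hi, rfl⟩, GL_val i⟩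
  rw [e]
  exact U13_eq

theorem pi_actL (i : ℕ) (hi : i < D432.k) (j : ℕ) (hj : j < D432.m) :
    GLs.getD i 1 • pt432 j = pt432 (D432.pi i j) := by
  have h := pi_act432 i hi j hj
  rw [← GL_val i] at h
  exact h

/-- the stabilizer of the first of the 432 vectors -/
noncomputable abbrev LB : Subgroup ↥L13 := MulAction.stabilizer ↥L13 (pt432 0)

theorem card_LB : Nat.card ↥LB = 13 := by
  have h := StemOrb.card_stabilizer_mul D432 chk_struct432 pt432 GLs hgenL pi_actL
    (by rw [m432]; norm_num) (fun j hj j' hj' => pt432_inj j hj j' hj')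
  rw [card_L13, m432] at h
  have h' : Nat.card ↥LB * 432 = 5616 := h
  omega

end Cfsg.Agent.Lib.Helper4.G23P
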