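import Mathlib
import Cfsg.Agent.Lib.Helper4.G23.P13a

set_option autoImplicit false
set_option maxRecDepth 100000

/-! The Chevalley group of type `G₂` over the field with 3 elements: the elements of order
divisible by 13 have order 13. -/

namespace Cfsg.Agent.Lib.Helper4.G23P

open Cfsg Cfsg.Lie Cfsg.Agent.Lib.Helper1 Cfsg.Agent.Lib.Helper1.MatCode
open Cfsg.Agent.Lib.Helper1.StemSA Cfsg.Agent.Lib.Helper1.G23 MulAction

theorem pi756_lt : ∀ j < 756, D756.pi 1 j < 756 := by decide +kernel

theorem pi756_fix : ∀ j < 756, D756.pi 1 j = j → j = 0 ∨ j = 396 := by decide +kernel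

theorem gB_act756 (j : ℕ) (hj : j < 756) : gB • pt756 j = pt756 (D756.pi 1 j) :=
  pi_act756 1 (by decide) j (by rw [m756]; exact hj)

/-! ## In the stabilizer -/

/-- the element of order 13, in the stabilizer -/
noncomputable def yL : ↥L13 := ⟨gB, gB_mem_L13⟩

theorem yL_val : (yL : Gm) = gB := rfl

theorem yL_eq : yL = GLs.getD 0 1 := rfl

theorem yL_ne : yL ≠ 1 := by
  intro h
  apply gB_ne
  rw [← yL_val, h, Subgroup.coe_one]

theorem orderOf_yL : orderOf yL = 13 := by
  rw [← orderOf_gB, ← yL_val, Subgroup.orderOf_coe]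

theorem yL_fix : yL • pt432 0 = pt432 0 := by
  have h := mem_stabilizer_iff.mp gB_fix432
  rw [← yL_val] at h
  exact h

theorem orbit432 : orbit ↥L13 (pt432 0) = pt432 '' (↑(Finset.range 432) : Set ℕ) := by
  have h := StemOrb.orbit_eq D432 chk_struct432 pt432 GLs hgenL pi_actL
    (by rw [m432]; norm_num)
  rw [m432] at h
  exact h

theorem pi432_lt : ∀ j < 432, D432.pi 0 j < 432 := by decide +kernel

theorem card_fix432 : ((Finset.range 432).filter (fun j => D432.pi 0 j = j)).card = 3 := by
  decide +kernel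

theorem yL_act432 (j : ℕ) (hj : j < 432) : yL • pt432 j = pt432 (D432.pi 0 j) := by
  have h := pi_actL 0 (by decide) j (by rw [m432]; exact hj)
  rw [← yL_eq] at h
  exact h

theorem card_normalizer_yL :
    Nat.card (Subgroup.normalizer ((Subgroup.zpowers yL : Subgroup ↥L13) : Set ↥L13)) =
      13 * 3 := by
  have h := card_normalizer_zpowers (H := ↥L13) (pt432 0) 13 (by norm_num) card_LB yL yL_fix
    yL_ne
  rw [h, ncard_fix pt432 432 pt432_inj (pt432 0) orbit432 yL (fun j => D432.pi 0 j)
    yL_act432 pi432_lt, card_fix432]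

/-- the element normalizing the subgroup of order 13 -/
noncomputable def nL : ↥L13 := wordProd GLs wnL

theorem nL_chk : ev cGL (wnL ++ [0]) = ev cGL ([0, 0, 0] ++ wnL) := by decide +kernel

theorem nL_val : (nL : Gm) = wordProd GL1 wnL := wordProd_GL wnL

theorem wordProd_GL1_0 : wordProd GL1 [0] = gB := by
  rw [wordProd_cons, wordProd_nil, mul_one]; rfl

theorem nL_rel : nL * yL = yL ^ 3 * nL := by
  apply Subtype.ext
  have h := eq_of_evGL1 _ _ nL_chk
  rw [wordProd_append, wordProd_append, show ([0, 0, 0] : List ℕ) = [0] ++ ([0] ++ [0]) from rfl,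
    wordProd_append, wordProd_append, wordProd_GL1_0] at h
  rw [Subgroup.coe_mul, Subgroup.coe_mul, Subgroup.coe_pow, yL_val, nL_val, pow_succ, pow_two,
    mul_assoc gB gB gB]
  exact h

theorem card_centralizer_yL : Nat.card (Subgroup.centralizer ({yL} : Set ↥L13)) = 13 := by
  apply card_centralizer_of_normalizer yL nL 13 3 (by norm_num) (by norm_num) orderOf_yL
    card_normalizer_yL (mem_normalizer_zpowers yL nL 3 nL_rel)
  intro h
  rw [nL_rel] at h
  have h1 : yL ^ 3 = yL := mul_right_cancel h
  have h2 : yL ^ 2 = 1 := by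
    have : yL * yL ^ 2 = yL * 1 := by rw [← pow_succ', h1, mul_one]
    exact mul_left_cancel this
  have := orderOf_dvd_of_pow_eq_one h2
  rw [orderOf_yL] at this
  omega

theorem no_inverting_yL (m : ↥L13) (hm : m * yL * m⁻¹ = yL⁻¹) : False := by
  apply no_inverting yL m _ _ hm
  · rw [card_normalizer_yL]; decide
  · intro h
    have := orderOf_dvd_of_pow_eq_one h
    rw [orderOf_yL] at this
    omega

/-! ## In the group -/

/-- the element exchanging the two fixed vectors of `gB` -/
noncomputable def n13 : Gm := wordProd GG4 wn13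

theorem n13_chk : ev cGG4 ([1] ++ wn13 ++ [1]) = ev cGG4 wn13 ∧
    mu (ev cGG4 wn13) (expand (PV756 0)) = expand (PV756 396) := by decide +kernel

theorem n13_smul : n13 • pt756 0 = pt756 396 :=
  smul_vpt n13 _ (φ_GG4 _) _ _ fix_chk13.2 n13_chk.2

theorem wordProd_GG4_1 : wordProd GG4 [1] = gB := by
  rw [wordProd_cons, wordProd_nil, mul_one]; rfl

theorem n13_def : wordProd GG4 wn13 = n13 := rfl

theorem n13_rel : n13 * gB * n13⁻¹ = gB⁻¹ := by
  have h := eq_of_evGG4 _ _ n13_chk.1
  rw [wordProd_append, wordProd_append, wordProd_GG4_1, n13_def] at h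
  have e : n13 * gB = gB⁻¹ * n13 := by
    nth_rewrite 2 [← h]
    group
  rw [e, mul_assoc, mul_inv_cancel, mul_one]

theorem centralizer_gB_le : Subgroup.centralizer ({gB} : Set Gm) ≤ L13 := by
  apply centralizer_le_stabilizer gB n13 (pt756 0) (pt756 396)
  · exact fix_cases pt756 756 pt756_inj (pt756 0) orbit756 gB (fun j => D756.pi 1 j) gB_act756
      pi756_lt 0 396 pi756_fix
  · exact mem_stabilizer_iff.mp gB_mem_L13
  · exact n13_smul
  · exact n13_rel
  · intro m hm h
    apply no_inverting_yL ⟨m, hm⟩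
    apply Subtype.ext
    rw [Subgroup.coe_mul, Subgroup.coe_mul, Subgroup.coe_inv, Subgroup.coe_inv, yL_val]
    exact h

theorem card_centralizer_gB : Nat.card (Subgroup.centralizer ({gB} : Set Gm)) ≤ 13 := by
  have h := card_centralizer_le_of_le L13 gB gB_mem_L13 centralizer_gB_le
  have h2 : Nat.card (Subgroup.centralizer ({(⟨gB, gB_mem_L13⟩ : ↥L13)} : Set ↥L13)) = 13 :=
    card_centralizer_yL
  omega

/-- the elements of order divisible by 13 have order 13 -/
theorem orderOf_thirteen (x : Gm) (hx : 13 ∣ orderOf x) : orderOf x = 13 :=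
  orderOf_eq_of_dvd 13 (by norm_num) gB orderOf_gB card_centralizer_gB
    (by rw [card_Gm]; norm_num) x hx

end Cfsg.Agent.Lib.Helper4.G23P
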