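import Mathlib
import Cfsg.Agent.Lib.Helper1.G23F
import Cfsg.Agent.Lib.Helper4.G23.SC3

set_option autoImplicit false
set_option maxRecDepth 100000

/-! The Chevalley group of type `G₂` over the field with 3 elements: the elements of order
divisible by 7 have order 7. -/

namespace Cfsg.Agent.Lib.Helper4.G23P

open Cfsg Cfsg.Lie Cfsg.Agent.Lib.Helper1 Cfsg.Agent.Lib.Helper1.MatCode
open Cfsg.Agent.Lib.Helper1.StemSA Cfsg.Agent.Lib.Helper1.G23 MulAction

/-- the table of the element `k1` of order 7 on the 702 vectors, 10 bits for each -/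
def tauN7 : ℕ := 0xa8a4b63d799ca96324cd1c9d5811c83651f9f21e6da787a1755b6a98ec247ad27a016b8ca5c295604d2b05be700e17652c827190b2189431ddc3985d61d992ea6e924615e06912e1b876957d196618779f447a321a4baa720e5d3e1aa1bcf98f1f3480ab1f6755b104654529e8c8991a84ea2c3f0289ccc305ca20ae9e0c0ec3d6556e9b11422f4193d51da44f24470411051856361fa14b07b98a5a167510d74c5e06e4a32ba8aa262a56c68ae849668c510a8ea2e0f445ec13e1c6489780524a4113745e580caa98d0372abc6adde0d0050f8923c8b89be696f8a8200cfabdd87e2074d9f9935c20f03a42988768363ad1b8e8542a57c602b82d8337120e464f767da28910e91cee01eb5818bb595fa4dd25ae6a85c6ab192a53b41c22eb12364190dbc8cdd61f07a75ddf76429651638c0c2adcbf1a88c9da3917d7b06e6b00de75d0158d59ea5d6926dd316a77a828350668542156deb3a908e4c1f12b52c684b24ccc66fe364e1f05597a8202a258b718107a08483068807e6d88d9c84a9a0c517205548a5d2a66aa7f41d080b40694a240930090c1393e8ae0d929bd82cde840e70380876e60521a03908f3c4be802560b40432a9334c41ab172861bb5fd2a36e3e9455f02a0a2be20a045b4fe021b29c60ca07a89e3a2bb984324a02c388b142053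999584c87543e5e91a5a6383b5197e15cd877479266199227fa45e9284461ad23ab54997d12462591c1fea107b71c9a131705315c385096b4e9178ac6e2268fcf37d614292090d57d8e0a7a600f0254d6b063005d06324ca7c1209d8908489a3daf1652169c40792bd332a308c221c487368d24595a3fded4356a128161b5ae112347fe4f155534acfd7d9e2469015498434539414d5844d606039a50f085e6a479459029d6d5c04a443888ea2f2748f4a655551262377bd22339fb8a140645423706e69a27942ae0b9d4642b6539fc5922d6ca7903577476422cdc562cb9276863f89fa35612459d5995d69581798c07dc65160f69ec2f96d593bce073dcb3ec783d01e1711c145432219702e9b4ec6299d571fc1960a458848a1ce0c5cdcc01a520f5626a44d996056612670c3f73a2564c67ad0d440213859e11f9a3a1d028c43734292040dd1d25404d153e9cd32ce538db35ba4e255354426c4b4b5098bd4be7e66dc92142557845a847694df253c66158c4962718b9b4a9914aca6237db0271e32100c95c00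

def tau7 (j : ℕ) : ℕ := (tauN7 >>> (10 * j)) % 2 ^ 10

theorem chk_tau7 : chkAct [cK1] PV702 702 (fun _ j => tau7 j) = true := by decide +kernel

theorem tau7_lt : ∀ j < 702, tau7 j < 702 := by decide +kernel

theorem tau7_fix : ∀ j < 702, tau7 j = j → j = 0 ∨ j = 637 := by decide +kernel

theorem k1_act702 (j : ℕ) (hj : j < 702) : k1 • pt702 j = pt702 (tau7 j) := by
  have hg : ∀ i < [cK1].length, φ (([k1] : List Gm).getD i 1) = D ([cK1].getD i c1) := by
    intro i hi
    have hi' : i < 1 := hi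
    interval_cases i
    exact φ_k1
  exact smul_vpt_of [k1] [cK1] PV702 702 (fun _ j => tau7 j) hg chk_vecs702 chk_tau7 0
    (by decide) j hj

theorem m702 : D702.m = 702 := rfl

theorem m864 : D864.m = 864 := rfl

theorem orbit702 : orbit Gm (pt702 0) = pt702 '' (↑(Finset.range 702) : Set ℕ) := by
  have h := StemOrb.orbit_eq D702 chk_struct702 pt702 GG hgen702 pi_act702
    (by rw [m702]; norm_num)
  rw [m702] at h
  exact h

/-! ## In the stabilizer -/

/-- the element of order 7, in the stabilizer -/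
noncomputable def yK : ↥K := ⟨k1, k1_mem_K⟩

theorem yK_val : (yK : Gm) = k1 := rfl

theorem yK_eq : yK = GK.getD 0 1 := rfl

theorem yK_ne : yK ≠ 1 := by
  intro h
  apply k1_ne
  rw [← yK_val, h, Subgroup.coe_one]

theorem orderOf_yK : orderOf yK = 7 := by
  rw [← orderOf_k1, ← yK_val, Subgroup.orderOf_coe]

theorem yK_fix : yK • pt864 0 = pt864 0 := by
  have h := mem_stabilizer_iff.mp k1_fix
  rw [← yK_val] at h
  exact h

theorem orbit864 : orbit ↥K (pt864 0) = pt864 '' (↑(Finset.range 864) : Set ℕ) := by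
  have h := StemOrb.orbit_eq D864 chk_struct864 pt864 GK hgenK pi_actK
    (by rw [m864]; norm_num)
  rw [m864] at h
  exact h

theorem pi864_lt : ∀ j < 864, D864.pi 0 j < 864 := by decide +kernel

theorem card_fix864 : ((Finset.range 864).filter (fun j => D864.pi 0 j = j)).card = 3 := by
  decide +kernel

theorem yK_act864 (j : ℕ) (hj : j < 864) : yK • pt864 j = pt864 (D864.pi 0 j) := by
  have h := pi_actK 0 (by decide) j (by rw [m864]; exact hj)
  rw [← yK_eq] at h
  exact h

theorem card_normalizer_yK :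
    Nat.card (Subgroup.normalizer ((Subgroup.zpowers yK : Subgroup ↥K) : Set ↥K)) = 7 * 3 := by
  have h := card_normalizer_zpowers (H := ↥K) (pt864 0) 7 (by norm_num) card_KB yK yK_fix yK_ne
  rw [h, ncard_fix pt864 864 pt864_inj (pt864 0) orbit864 yK (fun j => D864.pi 0 j)
    yK_act864 pi864_lt, card_fix864]

/-- the word of the element normalizing the subgroup of order 7 -/
def wnK : List ℕ := [1, 0, 1, 0, 1, 1, 0, 0, 1, 1]

/-- the element normalizing the subgroup of order 7 -/
noncomputable def nK : ↥K := wordProd GK wnK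

theorem nK_chk : ev cGK (wnK ++ [0]) = ev cGK ([0, 0] ++ wnK) := by decide +kernel

theorem nK_val : (nK : Gm) = wordProd GK1 wnK := wordProd_GK wnK

theorem wordProd_GK1_0 : wordProd GK1 [0] = k1 := by
  rw [wordProd_cons, wordProd_nil, mul_one]; rfl

theorem nK_rel : nK * yK = yK ^ 2 * nK := by
  apply Subtype.ext
  have h := eq_of_evGK1 _ _ nK_chk
  rw [wordProd_append, wordProd_append, show ([0, 0] : List ℕ) = [0] ++ [0] from rfl,
    wordProd_append, wordProd_GK1_0] at h
  rw [Subgroup.coe_mul, Subgroup.coe_mul, Subgroup.coe_pow, yK_val, nK_val, pow_two]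
  exact h

theorem card_centralizer_yK : Nat.card (Subgroup.centralizer ({yK} : Set ↥K)) = 7 := by
  apply card_centralizer_of_normalizer yK nK 7 3 (by norm_num) (by norm_num) orderOf_yK
    card_normalizer_yK (mem_normalizer_zpowers yK nK 2 nK_rel)
  intro h
  rw [nK_rel] at h
  have h1 : yK ^ 2 = yK := mul_right_cancel h
  have h2 : yK = 1 := by
    have : yK * yK = yK * 1 := by rw [← pow_two, h1, mul_one]
    exact mul_left_cancel this
  exact yK_ne h2

theorem no_inverting_yK (m : ↥K) (hm : m * yK * m⁻¹ = yK⁻¹) : False := by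
  apply no_inverting yK m _ _ hm
  · rw [card_normalizer_yK]; decide
  · intro h
    have := orderOf_dvd_of_pow_eq_one h
    rw [orderOf_yK] at this
    omega

/-! ## In the group -/

/-- the word of the element exchanging the two fixed vectors of `k1` -/
def wn7 : List ℕ := [0, 0, 0, 1, 0, 3, 0, 1, 0, 3, 0, 0, 3, 3, 3, 0, 1, 0, 3, 0, 0, 3, 3, 3, 0, 1, 0, 3, 0, 0, 3, 3, 3, 0, 1, 0, 3, 0, 0, 3, 3, 3, 0, 3, 2, 3, 0, 0, 1, 2, 3, 2, 3, 0, 0, 1, 2, 3, 2, 3, 0, 0, 1, 2, 3, 2, 3, 0, 0, 1, 2, 1, 0, 3, 0, 0, 3, 3, 3, 0]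

/-- the element exchanging the two fixed vectors of `k1` -/
noncomputable def n7 : Gm := wordProd GG4 wn7

theorem n7_chk : ev cGG4 (wK1 ++ wn7 ++ wK1) = ev cGG4 wn7 ∧
    mu (ev cGG4 wn7) (expand (PV702 0)) = expand (PV702 637) ∧
    canonB 14 3 (expand (PV702 0)) = true := by decide +kernel

theorem n7_smul : n7 • pt702 0 = pt702 637 :=
  smul_vpt n7 _ (φ_GG4 _) _ _ n7_chk.2.2 n7_chk.2.1

theorem k1_def : wordProd GG4 wK1 = k1 := rfl

theorem n7_def : wordProd GG4 wn7 = n7 := rfl

theorem n7_rel : n7 * k1 * n7⁻¹ = k1⁻¹ := by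
  have h := eq_of_evGG4 _ _ n7_chk.1
  rw [wordProd_append, wordProd_append, k1_def, n7_def] at h
  have e : n7 * k1 = k1⁻¹ * n7 := by
    nth_rewrite 2 [← h]
    group
  rw [e, mul_assoc, mul_inv_cancel, mul_one]

theorem centralizer_k1_le : Subgroup.centralizer ({k1} : Set Gm) ≤ K := by
  apply centralizer_le_stabilizer k1 n7 (pt702 0) (pt702 637)
  · exact fix_cases pt702 702 pt702_inj (pt702 0) orbit702 k1 tau7 k1_act702 tau7_lt 0 637
      tau7_fix
  · exact mem_stabilizer_iff.mp k1_mem_K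
  · exact n7_smul
  · exact n7_rel
  · intro m hm h
    apply no_inverting_yK ⟨m, hm⟩
    apply Subtype.ext
    rw [Subgroup.coe_mul, Subgroup.coe_mul, Subgroup.coe_inv, Subgroup.coe_inv, yK_val]
    exact h

theorem card_centralizer_k1 : Nat.card (Subgroup.centralizer ({k1} : Set Gm)) ≤ 7 := by
  have h := card_centralizer_le_of_le K k1 k1_mem_K centralizer_k1_le
  have h2 : Nat.card (Subgroup.centralizer ({(⟨k1, k1_mem_K⟩ : ↥K)} : Set ↥K)) = 7 :=
    card_centralizer_yK
  omega

/-- the elements of order divisible by 7 have order 7 -/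
theorem orderOf_seven (x : Gm) (hx : 7 ∣ orderOf x) : orderOf x = 7 :=
  orderOf_eq_of_dvd 7 (by norm_num) k1 orderOf_k1 card_centralizer_k1
    (by rw [card_Gm]; norm_num) x hx

end Cfsg.Agent.Lib.Helper4.G23P
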