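import Mathlib
import Cfsg.Agent.Lib.Helper5.SL2Torus

set_option autoImplicit false

/-! The orders of the elements of `PSL₂` over a field with 13 elements divide 6, 7 or 13, and there
is an element of order 6. -/

namespace Cfsg.Agent.Lib.Helper4.G23P

open Matrix Cfsg.Agent.Lib.Helper5

section seq

variable {F : Type*} [Field F]

/-- the pairs `(a n, a (n + 1))` of the sequence `a 0 = 0`, `a 1 = 1`,
`a (n + 2) = t * a (n + 1) - a n` -/
def aPair (t : F) : ℕ → F × F
  | 0 => (0, 1)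
  | n + 1 => ((aPair t n).2, t * (aPair t n).2 - (aPair t n).1)

/-- the same sequence over the integers -/
def aPairZ (k : ℤ) : ℕ → ℤ × ℤ
  | 0 => (0, 1)
  | n + 1 => ((aPairZ k n).2, k * (aPairZ k n).2 - (aPairZ k n).1)

theorem aPair_cast (k : ℕ) (n : ℕ) :
    aPair ((k : ℕ) : F) n =
      ((((aPairZ (k : ℤ) n).1 : ℤ) : F), (((aPairZ (k : ℤ) n).2 : ℤ) : F)) := by
  induction n with
  | zero => simp [aPair, aPairZ]
  | succ n ih =>
    simp only [aPair, aPairZ, ih]
    push_cast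
    rfl

/-- the powers of a matrix of determinant 1 -/
theorem coe_pow_succ (g : SpecialLinearGroup (Fin 2) F) (n : ℕ) :
    (g : Matrix (Fin 2) (Fin 2) F) ^ (n + 1) =
      (aPair (g : Matrix (Fin 2) (Fin 2) F).trace n).2 • (g : Matrix (Fin 2) (Fin 2) F) -
        (aPair (g : Matrix (Fin 2) (Fin 2) F).trace n).1 • (1 : Matrix (Fin 2) (Fin 2) F) := by
  set M := (g : Matrix (Fin 2) (Fin 2) F) with hM
  set t := M.trace with ht
  have hCH : M * M = t • M - 1 := by
    have := cayley_two_sl g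
    rw [← this]; abel
  induction n with
  | zero => simp [aPair]
  | succ n ih =>
    rw [pow_succ, ih]
    simp only [aPair]
    rw [sub_mul, Matrix.smul_mul, Matrix.smul_mul, Matrix.one_mul, hCH, smul_sub, smul_smul,
      sub_smul, mul_comm t]
    abel

/-- a power of an element of `SL₂` is a scalar when the corresponding term of the sequence
vanishes -/
theorem mk_pow_eq_one_of_aPair (g : SpecialLinearGroup (Fin 2) F) (n : ℕ)
    (h : (aPair (g : Matrix (Fin 2) (Fin 2) F).trace n).2 = 0) :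
    (QuotientGroup.mk g : ProjectiveSpecialLinearGroup (Fin 2) F) ^ (n + 1) = 1 := by
  have e : (QuotientGroup.mk g : ProjectiveSpecialLinearGroup (Fin 2) F) ^ (n + 1) =
      QuotientGroup.mk (g ^ (n + 1)) := rfl
  rw [e, mk_eq_one_iff]
  refine ⟨-(aPair (g : Matrix (Fin 2) (Fin 2) F).trace n).1, ?_⟩
  have e1 : ((g ^ (n + 1) : SpecialLinearGroup (Fin 2) F) : Matrix (Fin 2) (Fin 2) F) =
      (g : Matrix (Fin 2) (Fin 2) F) ^ (n + 1) := rfl
  rw [e1, coe_pow_succ, h, zero_smul, zero_sub, neg_smul]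

end seq

section thirteen

variable {E : Type*} [Field E] [Fintype E]

theorem seq_chk : ∀ k : ℕ, k < 13 → ((13 : ℤ) ∣ (aPairZ (k : ℤ) 5).2 ∨
    (13 : ℤ) ∣ (aPairZ (k : ℤ) 6).2 ∨ k = 2 ∨ k = 11) := by decide

theorem pow_cases_13 (hE : Fintype.card E = 13)
    (y : ProjectiveSpecialLinearGroup (Fin 2) E) : y ^ 6 = 1 ∨ y ^ 7 = 1 ∨ y ^ 13 = 1 := by
  have hp : Nat.Prime 13 := by norm_num
  haveI : Fact (Nat.Prime 13) := ⟨hp⟩
  let e : ZMod 13 ≃+* E := ZMod.ringEquivOfPrime E hp hE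
  haveI : CharP E 13 := RingHom.charP (e.symm : E →+* ZMod 13) e.symm.injective 13
  obtain ⟨g, rfl⟩ := QuotientGroup.mk_surjective y
  set t := (g : Matrix (Fin 2) (Fin 2) E).trace with ht
  obtain ⟨k, hk, hkt⟩ : ∃ k : ℕ, k < 13 ∧ t = ((k : ℕ) : E) := by
    refine ⟨(e.symm t).val, ZMod.val_lt _, ?_⟩
    have h1 : e (e.symm t) = t := e.apply_symm_apply t
    have h2 : (((e.symm t).val : ℕ) : ZMod 13) = e.symm t := ZMod.natCast_zmod_val _
    calc t = e (e.symm t) := h1.symm
      _ = e (((e.symm t).val : ℕ) : ZMod 13) := by rw [h2]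
      _ = (((e.symm t).val : ℕ) : E) := map_natCast e _
  have h13 : ∀ z : ℤ, (13 : ℤ) ∣ z → ((z : ℤ) : E) = 0 := by
    intro z hz
    exact (CharP.intCast_eq_zero_iff E 13 z).mpr (by exact_mod_cast hz)
  rcases seq_chk k hk with h | h | h | h
  · left
    apply mk_pow_eq_one_of_aPair g 5
    rw [← ht, hkt, aPair_cast]
    exact h13 _ h
  · right; left
    apply mk_pow_eq_one_of_aPair g 6
    rw [← ht, hkt, aPair_cast]
    exact h13 _ h
  · right; right
    apply mk_pow_char_eq_one 13 g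
    rw [← ht, hkt, h]
    norm_num
  · right; right
    apply mk_pow_char_eq_one 13 g
    rw [← ht, hkt, h]
    have h0 : ((13 : ℤ) : E) = 0 := h13 13 (dvd_refl _)
    have : ((11 : ℕ) : E) ^ 2 = 4 + ((13 : ℤ) : E) * 9 := by push_cast; norm_num
    rw [this, h0, zero_mul, add_zero]

theorem orderOf_dvd_13 (hE : Fintype.card E = 13)
    (y : ProjectiveSpecialLinearGroup (Fin 2) E) :
    orderOf y ∣ 6 ∨ orderOf y ∣ 7 ∨ orderOf y ∣ 13 := by
  rcases pow_cases_13 hE y with h | h | h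
  · exact Or.inl (orderOf_dvd_of_pow_eq_one h)
  · exact Or.inr (Or.inl (orderOf_dvd_of_pow_eq_one h))
  · exact Or.inr (Or.inr (orderOf_dvd_of_pow_eq_one h))

theorem exists_orderOf_six (hE : Fintype.card E = 13) :
    ∃ y : ProjectiveSpecialLinearGroup (Fin 2) E, orderOf y = 6 := by
  have hp : Nat.Prime 13 := by norm_num
  let e : ZMod 13 ≃+* E := ZMod.ringEquivOfPrime E hp hE
  haveI : CharP E 13 := RingHom.charP (e.symm : E →+* ZMod 13) e.symm.injective 13
  have h2 : (2 : E) ≠ 0 := by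
    intro h
    have : ((2 : ℕ) : E) = 0 := by exact_mod_cast h
    rw [CharP.cast_eq_zero_iff E 13] at this
    omega
  obtain ⟨g, hg⟩ := exists_orderOf_eq_card_sub_one (F := E)
  rw [hE] at hg
  refine ⟨QuotientGroup.mk g, ?_⟩
  apply Nat.dvd_antisymm
  · apply orderOf_dvd_of_pow_eq_one
    rw [mk_pow_eq_one_iff_odd h2]
    have := pow_orderOf_eq_one g
    rw [hg] at this
    exact this
  · have h := pow_orderOf_eq_one (QuotientGroup.mk g : ProjectiveSpecialLinearGroup (Fin 2) E)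
    rw [mk_pow_eq_one_iff_odd h2] at h
    have hd := orderOf_dvd_of_pow_eq_one h
    rw [hg] at hd
    omega

end thirteen

end Cfsg.Agent.Lib.Helper4.G23P
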