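import Mathlib
import Cfsg.Agent.Lib.Helper4.G23.P7
import Cfsg.Agent.Lib.Helper4.G23.P13b
import Cfsg.Agent.Lib.Helper4.G23.Ord6
import Cfsg.Agent.Lib.Helper4.G23.PSL13
import Cfsg.Agent.Lib.Helper1.SLCard
import Cfsg.Agent.Lib.Helper3.ChevRingEquiv

set_option autoImplicit false

/-! The prime graphs of `G₂(3)` and `PSL₂(13)`. -/

namespace Cfsg.Agent.Lib.Helper4.G23P

open Cfsg Cfsg.Lie Cfsg.Agent.Lib.Helper1 Cfsg.Agent.Lib.Helper1.G23 Matrix

/-! ## Arithmetic -/

theorem prime_dvd_big (r : ℕ) (hr : r.Prime) (h : r ∣ 4245696) :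
    r = 2 ∨ r = 3 ∨ r = 7 ∨ r = 13 := by
  have e : 4245696 = 2 ^ 6 * 3 ^ 6 * 7 * 13 := by norm_num
  rw [e] at h
  rcases (Nat.Prime.dvd_mul hr).mp h with h | h
  · rcases (Nat.Prime.dvd_mul hr).mp h with h | h
    · rcases (Nat.Prime.dvd_mul hr).mp h with h | h
      · left
        exact (Nat.prime_dvd_prime_iff_eq hr Nat.prime_two).mp (hr.dvd_of_dvd_pow h)
      · right; left
        exact (Nat.prime_dvd_prime_iff_eq hr Nat.prime_three).mp (hr.dvd_of_dvd_pow h)
    · right; right; left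
      exact (Nat.prime_dvd_prime_iff_eq hr (by norm_num)).mp h
  · right; right; right
    exact (Nat.prime_dvd_prime_iff_eq hr (by norm_num)).mp h

theorem prime_dvd_iff (r : ℕ) (hr : r.Prime) : r ∣ 4245696 ↔ r ∣ 1092 := by
  constructor
  · intro h
    rcases prime_dvd_big r hr h with rfl | rfl | rfl | rfl <;> norm_num
  · intro h
    exact h.trans (by norm_num)

theorem mul_eq_six_of_dvd_six (r s : ℕ) (hr : r.Prime) (hs : s.Prime) (hrs : r ≠ s)
    (h : r * s ∣ 6) : r * s = 6 := by
  have h1 : r ∣ 6 := (Dvd.intro _ rfl).trans h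
  have h2 : s ∣ 6 := (Dvd.intro_left _ rfl).trans h
  have e : 6 = 2 * 3 := by norm_num
  have hr' : r = 2 ∨ r = 3 := by
    rw [e] at h1
    rcases (Nat.Prime.dvd_mul hr).mp h1 with h | h
    · left; exact (Nat.prime_dvd_prime_iff_eq hr Nat.prime_two).mp h
    · right; exact (Nat.prime_dvd_prime_iff_eq hr Nat.prime_three).mp h
  have hs' : s = 2 ∨ s = 3 := by
    rw [e] at h2
    rcases (Nat.Prime.dvd_mul hs).mp h2 with h | h
    · left; exact (Nat.prime_dvd_prime_iff_eq hs Nat.prime_two).mp h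
    · right; exact (Nat.prime_dvd_prime_iff_eq hs Nat.prime_three).mp h
  rcases hr' with rfl | rfl <;> rcases hs' with rfl | rfl <;> simp_all

theorem not_mul_dvd_prime (r s p : ℕ) (hr : r.Prime) (hs : s.Prime) (hp : p.Prime) (hrs : r ≠ s)
    (h : r * s ∣ p) : False := by
  have h1 : r ∣ p := (Dvd.intro _ rfl).trans h
  have h2 : s ∣ p := (Dvd.intro_left _ rfl).trans h
  have e1 := (Nat.prime_dvd_prime_iff_eq hr hp).mp h1
  have e2 := (Nat.prime_dvd_prime_iff_eq hs hp).mp h2
  exact hrs (e1.trans e2.symm)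

/-! ## The group `G₂(3)` -/

theorem gm_iff (r s : ℕ) (hr : r.Prime) (hs : s.Prime) (hrs : r ≠ s) :
    (∃ x : Gm, orderOf x = r * s) ↔ r * s = 6 := by
  constructor
  · rintro ⟨x, hx⟩
    have hd : r * s ∣ 4245696 := by
      rw [← hx, ← card_Gm]; exact orderOf_dvd_natCard x
    have h7 : ¬ 7 ∣ r * s := by
      intro h
      have := orderOf_seven x (by rw [hx]; exact h)
      rw [hx] at this
      exact not_mul_dvd_prime r s 7 hr hs (by norm_num) hrs (by rw [this])
    have h13 : ¬ 13 ∣ r * s := by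
      intro h
      have := orderOf_thirteen x (by rw [hx]; exact h)
      rw [hx] at this
      exact not_mul_dvd_prime r s 13 hr hs (by norm_num) hrs (by rw [this])
    have hr' : r = 2 ∨ r = 3 := by
      rcases prime_dvd_big r hr ((Dvd.intro _ rfl).trans hd) with h | h | h | h
      · exact Or.inl h
      · exact Or.inr h
      · exact absurd (by rw [h]; exact Dvd.intro _ rfl) h7
      · exact absurd (by rw [h]; exact Dvd.intro _ rfl) h13
    have hs' : s = 2 ∨ s = 3 := by
      rcases prime_dvd_big s hs ((Dvd.intro_left _ rfl).trans hd) with h | h | h | h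
      · exact Or.inl h
      · exact Or.inr h
      · exact absurd (by rw [h]; exact Dvd.intro_left _ rfl) h7
      · exact absurd (by rw [h]; exact Dvd.intro_left _ rfl) h13
    rcases hr' with rfl | rfl <;> rcases hs' with rfl | rfl <;> simp_all
  · intro h
    exact ⟨x6, by rw [orderOf_x6, h]⟩

section field

variable {F : Type*} [Field F] [Fintype F]

/-- the isomorphism with the group over the integers modulo 3 -/
noncomputable def gmEquiv (hF : Fintype.card F = 3) : Gm ≃* ↥(chevG2.group F) :=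
  Cfsg.Agent.Lib.Helper3.ChevRE.groupRingEquiv chevG2
    (ZMod.ringEquivOfPrime F Nat.prime_three hF)

theorem card_g2 (hF : Fintype.card F = 3) : Nat.card ↥(chevG2.group F) = 4245696 := by
  rw [← Nat.card_congr (gmEquiv hF).toEquiv, card_Gm]

theorem g2_iff (hF : Fintype.card F = 3) (r s : ℕ) (hr : r.Prime) (hs : s.Prime) (hrs : r ≠ s) :
    (∃ x : ↥(chevG2.group F), orderOf x = r * s) ↔ r * s = 6 := by
  rw [← gm_iff r s hr hs hrs]
  constructor
  · rintro ⟨x, hx⟩
    exact ⟨(gmEquiv hF).symm x, by rw [MulEquiv.orderOf_eq, hx]⟩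
  · rintro ⟨x, hx⟩
    exact ⟨gmEquiv hF x, by rw [MulEquiv.orderOf_eq, hx]⟩

end field

/-! ## The group `PSL₂(13)` -/

section psl

variable {E : Type*} [Field E] [Fintype E]

theorem card_psl (hE : Fintype.card E = 13) :
    Nat.card (ProjectiveSpecialLinearGroup (Fin 2) E) = 1092 := by
  have hc := Cfsg.Agent.Lib.Helper1.card_PSL_field (F := E) 2 (by norm_num)
  rw [hE, Fin.prod_univ_two] at hc
  generalize Nat.card (ProjectiveSpecialLinearGroup (Fin 2) E) = N at hc ⊢
  norm_num at hc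
  omega

theorem psl_iff (hE : Fintype.card E = 13) (r s : ℕ) (hr : r.Prime) (hs : s.Prime)
    (hrs : r ≠ s) :
    (∃ y : ProjectiveSpecialLinearGroup (Fin 2) E, orderOf y = r * s) ↔ r * s = 6 := by
  constructor
  · rintro ⟨y, hy⟩
    rcases orderOf_dvd_13 hE y with h | h | h
    · rw [hy] at h
      exact mul_eq_six_of_dvd_six r s hr hs hrs h
    · rw [hy] at h
      exact (not_mul_dvd_prime r s 7 hr hs (by norm_num) hrs h).elim
    · rw [hy] at h
      exact (not_mul_dvd_prime r s 13 hr hs (by norm_num) hrs h).elim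
  · intro h
    obtain ⟨y, hy⟩ := exists_orderOf_six hE
    exact ⟨y, by rw [hy, h]⟩

end psl

end Cfsg.Agent.Lib.Helper4.G23P
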